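import Groth.Agent.CurvSt.K333.StableOpen
import Groth.Agent.CurvSt.K508.SmLocus

/-!
# Marked nodal curves over an algebraically closed field

* `isStableFam`: a connected proper nodal curve with at least three marks on every component is stable.
* `isNodalFamily_of_cover`, `smoothAt_of_isStableFam`.
-/

set_option autoImplicit false
universe u
open CategoryTheory CategoryTheory.Limits AlgebraicGeometry TopologicalSpace IsLocalRing

namespace K835.StabField

open Groth.Agent K901.Loci K901.SchLoc K901.SchPre CurvSt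

/-- A connected proper nodal curve over an algebraically closed field with at least three marks on every component is
stable. -/
theorem isStableFam {K : Type u} [Field K] [IsAlgClosed K] {P : Scheme.{u}} (t : P ⟶ Spec (CommRingCat.of K))
    [IsProper t] (ht : Curv2.IsNodalFamily t) [ConnectedSpace P] {m : ℕ}
    (κ : Fin m → (Spec (CommRingCat.of K) ⟶ P)) (hκ : ∀ i, κ i ≫ t = 𝟙 _) (hinj : Function.Injective κ)
    (hsm : ∀ i, SmoothAt t (κ i (closedPoint K)))
    (hE : ∀ E ∈ irreducibleComponents (P : Type u), ∃ j : Fin 3 → Fin m, Function.Injective j ∧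
      ∀ i, κ (j i) (closedPoint K) ∈ E) :
    ∃ g, 3 ≤ 2 * g + m ∧ IsStableFam t κ hκ g := by
  have hfl : Flat t := ht.1
  have hfp : LocallyOfFinitePresentation t := ht.2.1
  have hP : IsPullback (𝟙 P) t t (𝟙 (Spec (CommRingCat.of K))) := IsPullback.of_horiz_isIso ⟨by simp⟩
  let g := @Curv2.genus K _ P ⟨t⟩
  have hm : 3 ≤ m := by
    obtain ⟨x⟩ := (inferInstance : Nonempty P)
    obtain ⟨j, hj, -⟩ := hE _ (irreducibleComponent_mem_irreducibleComponents x)
    simpa using Fintype.card_le_of_injective j hj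
  have hmk : ∀ j, markedPt κ hκ hP j = κ j (closedPoint K) := fun j => apply_markedPt t κ hκ hP j
  have hpre : StMap.IsPrestablePtd K P t g (markedPt κ hκ hP) := by
    refine (prestable_field_iff g t _ (isClosed_markedPt t κ hκ hP)).2
      ⟨(isNodalFamily_iff t).1 ht, inferInstance, rfl, (injective_markedPt_iff t κ hκ hP).2 ?_, fun i => ?_⟩
    · intro a b hab
      have h1 := comp_eq_of_apply_eq (hκ a) (hκ b) (𝟙 _) hab
      rw [Category.id_comp, Category.id_comp] at h1
      exact hinj h1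
    · rw [hmk]
      exact hsm i
  have hst : IsStablePtd K P t g (markedPt κ hκ hP) := by
    obtain ⟨h1, h2, h3, h4, h5, h6⟩ := hpre
    refine ⟨h1, h2, h3, h4, h5, h6, fun E h7 => ?_, by omega⟩
    obtain ⟨j, hj, hjE⟩ := hE E h7.1
    refine le_add_left ?_
    have h8 : 3 ≤ Nat.card {i : Fin m // markedPt κ hκ hP i ∈ E} := by
      let j' : Fin 3 → {i : Fin m // markedPt κ hκ hP i ∈ E} := fun i => ⟨j i, by rw [hmk]; exact hjE i⟩
      have hj' : Function.Injective j' := fun a b hab => hj (congrArg Subtype.val hab)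
      simpa using Nat.card_le_card_of_injective j' hj'
    exact_mod_cast h8
  refine ⟨g, by omega, hfl, inferInstance, hfp, fun Ω _ _ t' X i q hP' => ?_⟩
  have h1 := (K333.StableOpen.isStablePtd_iff t κ hκ g hP).1 hst
  refine h1 Ω t' ?_ X i q hP'
  exact Subsingleton.elim (α := PrimeSpectrum K) _ _

/-- The sections of a stable family lie in the smooth locus. -/
theorem smoothAt_of_isStableFam {C T : Scheme.{u}} {f : C ⟶ T} {n g : ℕ} {σ : Fin n → (T ⟶ C)}
    {hσ : ∀ i, σ i ≫ f = 𝟙 T} (h : IsStableFam f σ hσ g) (i : Fin n) (c : T) : SmoothAt f (σ i c) := by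
  obtain ⟨Ω, _, _, t, rfl⟩ := K508.SmLocus.exists_geometric_point T c
  have hP := IsPullback.of_hasPullback f t
  obtain ⟨h1, h2, h3, h4⟩ := h
  obtain ⟨-, -, -, -, -, h5, -⟩ := h4 Ω t _ _ _ hP
  have h6 := (locusProp_smooth.baseChange f _ _ t hP _).1 (h5 i).2
  rw [apply_markedPt] at h6
  exact h6

/-- The total space of a stable family is nodal. -/
theorem isNodalFamily_of_isStableFam {C T : Scheme.{u}} {f : C ⟶ T} {n g : ℕ} {σ : Fin n → (T ⟶ C)}
    {hσ : ∀ i, σ i ≫ f = 𝟙 T} (h : IsStableFam f σ hσ g) : Curv2.IsNodalFamily f := by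
  obtain ⟨h1, h2, h3, h4⟩ := h
  rw [isNodalFamily_iff]
  intro x
  obtain ⟨Ω, _, _, t, ht⟩ := K508.SmLocus.exists_geometric_point T (f x)
  have hP := IsPullback.of_hasPullback f t
  obtain ⟨h5, h6, h7, ⟨h8, h9⟩, h10, h11, -⟩ := h4 Ω t _ _ _ hP
  have h12 := (prestable_field_iff g (pullback.snd f t) _ (isClosed_markedPt f σ hσ hP)).1
    ⟨h5, h6, h7, ⟨h8, h9⟩, h10, h11⟩
  obtain ⟨z, hz, -⟩ := Scheme.Pullback.exists_preimage_pullback (f := f) (g := t) x (K508.StabPow.pt Ω) ht.symm
  have h13 := (locusProp_nodal.baseChange f _ _ t hP z).1 (h12.1 z)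
  rwa [hz] at h13

/-- Nodality on a Zariski cover. -/
theorem isNodalFamily_of_cover {X S : Scheme.{u}} (p : X ⟶ S) {J : Type u} {Y : J → Scheme.{u}}
    (ι : ∀ c, Y c ⟶ X) [∀ c, IsOpenImmersion (ι c)] (hcov : ∀ x : X, ∃ c, x ∈ Set.range (ι c))
    (h : ∀ c, Curv2.IsNodalFamily (ι c ≫ p)) : Curv2.IsNodalFamily p := by
  let 𝒰 : X.OpenCover := Scheme.Cover.mkOfCovers J Y ι hcov inferInstance
  have h1 : Flat p := (IsZariskiLocalAtSource.iff_of_openCover (P := @Flat) 𝒰).2 fun (c : J) => (h c).1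
  have h2 : LocallyOfFinitePresentation p :=
    (IsZariskiLocalAtSource.iff_of_openCover (P := @LocallyOfFinitePresentation) 𝒰).2 fun (c : J) => (h c).2.1
  rw [isNodalFamily_iff]
  intro x
  obtain ⟨c, y, rfl⟩ := hcov x
  exact (locusProp_nodal.source (ι c) p y).1 ((isNodalFamily_iff _).1 (h c) y)

end K835.StabField
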