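import Groth.Agent.SSMod.K835.Disj
import Groth.Agent.SSMod.K835.StabField
import Groth.Agent.SSMod.K122.Plan2

/-!
# Nodal models of nodal curves over valuation rings (node (L4) of `K122.Plan2`)

`main : K122.Plan.Valex → K122.Plan2.StableModel`: a proper nodal curve over `K = Frac V`, `K` algebraically closed,
with at least three marks on every irreducible component extends to a proper nodal family over `V` with disjoint
sections in the smooth locus: every connected component is a stable pointed curve.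
-/

set_option autoImplicit false
universe u
open CategoryTheory CategoryTheory.Limits AlgebraicGeometry TopologicalSpace IsLocalRing

namespace K835.StabModel

open Groth.Agent K901.Loci K901.SchLoc K901.SchPre CurvSt

/-- The image of an irreducible component under a clopen embedding is an irreducible component. -/
theorem image_mem_irreducibleComponents {X Y : Type*} [TopologicalSpace X] [TopologicalSpace Y] {f : Y → X}
    (hf : Topology.IsOpenEmbedding f) (hc : IsClosed (Set.range f)) {E : Set Y}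
    (hE : E ∈ irreducibleComponents Y) : f '' E ∈ irreducibleComponents X := by
  refine ⟨hE.1.image f hf.continuous.continuousOn, fun F hF hle => ?_⟩
  obtain ⟨e, he⟩ := hE.1.1
  have hr : F ⊆ Set.range f := by
    intro x hx
    by_contra hcon
    obtain ⟨z, -, hz, hz'⟩ := hF.2 _ _ hf.isOpen_range hc.isOpen_compl ⟨f e, hle ⟨e, he, rfl⟩, ⟨e, rfl⟩⟩ ⟨x, hx, hcon⟩
    exact hz' hz
  have h1 : IsIrreducible (f ⁻¹' F) := ⟨⟨e, hle ⟨e, he, rfl⟩⟩, hF.2.preimage hf⟩
  have h2 : f ⁻¹' F ⊆ E := hE.2 h1 fun y hy => hle ⟨y, hy, rfl⟩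
  intro x hx
  obtain ⟨y, rfl⟩ := hr hx
  exact ⟨y, h2 hx, rfl⟩

theorem smoothAt_iff {X Y : Scheme.{u}} (f : X ⟶ Y) [LocallyOfFinitePresentation f] (x : X) :
    SmoothAt f x ↔ x ∉ DualGr.nonsmoothPts f := by
  rw [SmoothAt, ← K903.NonsmoothFin.mem_smoothLocus_iff_exists, Scheme.Hom.mem_smoothLocus]
  exact not_not.symm

/-- The marks on a connected component. -/
theorem exists_marks {K : Type u} [Field K] [IsAlgClosed K] {P : Scheme.{u}} (t : P ⟶ Spec (CommRingCat.of K))
    [IsProper t] (ht : Curv2.IsNodalFamily t) (n : ℕ) (κ : Fin n → (Spec (CommRingCat.of K) ⟶ P))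
    (hκ : ∀ i, κ i ≫ t = 𝟙 _) (hinj : Function.Injective κ) (hsm : ∀ i, SmoothAt t (κ i (closedPoint K)))
    (hE : ∀ E ∈ irreducibleComponents (P : Type u), ∃ j : Fin 3 → Fin n, Function.Injective j ∧
      ∀ i, κ (j i) (closedPoint K) ∈ E)
    (U : P.Opens) [ConnectedSpace U] (hU : IsClosed (U : Set P)) :
    ∃ (m g : ℕ) (ε : Fin m → Fin n) (κ' : Fin m → (Spec (CommRingCat.of K) ⟶ U)) (hκ' : ∀ i, κ' i ≫ U.ι ≫ t = 𝟙 _),
      3 ≤ 2 * g + m ∧ IsStableFam (U.ι ≫ t) κ' hκ' g ∧ (∀ j, κ' j ≫ U.ι = κ (ε j)) ∧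
      (∀ i, κ i (closedPoint K) ∈ U → ∃ j, ε j = i) := by
  have hfl : Flat t := ht.1
  have hfp : LocallyOfFinitePresentation t := ht.2.1
  let A : Type := {i : Fin n // κ i (closedPoint K) ∈ U}
  let ε' : A ≃ Fin (Nat.card A) := Finite.equivFin A
  have hcl : IsClosedImmersion U.ι := IsClosedImmersion.of_isPreimmersion _ (by
    rw [Scheme.Opens.range_ι]; exact hU)
  have hr : ∀ j, Set.range (κ (ε'.symm j).1) ⊆ Set.range U.ι := by
    rintro j _ ⟨z, rfl⟩
    have hz : z = closedPoint K := Subsingleton.elim (α := PrimeSpectrum K) _ _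
    rw [hz, Scheme.Opens.range_ι]
    exact (ε'.symm j).2
  let κ' : Fin (Nat.card A) → (Spec (CommRingCat.of K) ⟶ U) := fun j => IsOpenImmersion.lift U.ι (κ (ε'.symm j).1) (hr j)
  have hκ1 : ∀ j, κ' j ≫ U.ι = κ (ε'.symm j).1 := fun j => IsOpenImmersion.lift_fac _ _ _
  have hκ2 : ∀ j, U.ι (κ' j (closedPoint K)) = κ (ε'.symm j).1 (closedPoint K) := fun j => by
    rw [← Scheme.Hom.comp_apply, hκ1]
  have hκ' : ∀ i, κ' i ≫ U.ι ≫ t = 𝟙 _ := fun i => by rw [reassoc_of% (hκ1 i), hκ]
  obtain ⟨g, hg, hst⟩ := StabField.isStableFam (U.ι ≫ t) (S1592.result t ht U.ι) κ' hκ' (fun a b hab => by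
      have h1 : κ (ε'.symm a).1 = κ (ε'.symm b).1 := by rw [← hκ1, ← hκ1, hab]
      exact ε'.symm.injective (Subtype.ext (hinj h1)))
    (fun i => (locusProp_smooth.source U.ι t _).2 (by rw [hκ2]; exact hsm _)) (fun E hEc => by
      obtain ⟨j, hj, hjE⟩ := hE _ (image_mem_irreducibleComponents U.ι.isOpenEmbedding
        (by rw [Scheme.Opens.range_ι]; exact hU) hEc)
      have hjU : ∀ i, κ (j i) (closedPoint K) ∈ U := fun i => by
        obtain ⟨y, -, hy⟩ := hjE i
        rw [← hy]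
        exact y.2
      refine ⟨fun i => ε' ⟨j i, hjU i⟩, fun a b hab => hj (congrArg Subtype.val (ε'.injective hab)), fun i => ?_⟩
      obtain ⟨y, hyE, hy⟩ := hjE i
      have h1 : κ' (ε' ⟨j i, hjU i⟩) (closedPoint K) = y := by
        apply U.ι.isOpenEmbedding.injective
        rw [hκ2, Equiv.symm_apply_apply, hy]
      rw [h1]
      exact hyE)
  exact ⟨Nat.card A, g, fun j => (ε'.symm j).1, κ', hκ', hg, hst, hκ1, fun i hi =>
    ⟨ε' ⟨i, hi⟩, congrArg Subtype.val (ε'.symm_apply_apply ⟨i, hi⟩)⟩⟩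

/-- (L4) A proper nodal curve over `K` with three marks on every component has a proper nodal model over `V` in which the
marks extend to disjoint sections of the smooth locus. -/
theorem main (hV : K122.Plan.Valex.{u}) : K122.Plan2.StableModel.{u} := by
  intro V _ _ _ _ _ P t _ ht n κ hκ hinj hsm0 hE0
  have hfl : Flat t := ht.1
  have hfp : LocallyOfFinitePresentation t := ht.2.1
  let K := FractionRing V
  have hsm : ∀ i, SmoothAt t (κ i (closedPoint K)) := fun i => (smoothAt_iff t _).2 (hsm0 i _)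
  have hE : ∀ E ∈ irreducibleComponents (P : Type u), ∃ j : Fin 3 → Fin n, Function.Injective j ∧
      ∀ i, κ (j i) (closedPoint K) ∈ E := fun E h => by
    obtain ⟨j, hj, hjE⟩ := hE0 E h
    exact ⟨j, hj, fun i => hjE i _⟩
  have hNoeth : IsNoetherian P := CurvesB.NodalFibreH.isNoetherian_of_isProper K P t
  obtain ⟨J, hJ, U, hconn, hcov, hdis⟩ := Disj.exists_components P
  have hcovP : ∀ x : P, ∃ c, x ∈ Set.range (U c).ι := fun x => by
    obtain ⟨c, hc⟩ := hcov x
    exact ⟨c, by rw [Scheme.Opens.range_ι]; exact hc⟩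
  have hdisP : ∀ a b x y, (U a).ι x = (U b).ι y → a = b := fun a b x y h =>
    hdis a b ((U a).ι x) x.2 (by rw [h]; exact y.2)
  have hclU : ∀ c, IsClosed (U c : Set P) := fun c => by
    have h1 := Disj.isClosed_range (fun c => (U c).ι) hcovP hdisP c
    rwa [Scheme.Opens.range_ι] at h1
  choose m g ε κ' hκ' hg hst hκ1 hε using fun c => exists_marks t ht n κ hκ hinj hsm hE (U c) (hclU c)
  choose Y q τ hτ e hstY hpb hcomp using fun c => hV V (g c) (m c) (hg c) ((U c).ι ≫ t) (κ' c) (hκ' c) (hst c)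
  let X : Scheme.{u} := ∐ Y
  let ι : ∀ c, Y c ⟶ X := fun c => Sigma.ι Y c
  have hopen : ∀ c, IsOpenImmersion (ι c) := fun c => inferInstance
  have hcovX : ∀ x : X, ∃ c, x ∈ Set.range (ι c) := fun x => by
    obtain ⟨⟨c, y⟩, rfl⟩ := (sigmaMk Y).surjective x
    exact ⟨c, y, (sigmaMk_mk Y c y).symm⟩
  have hdisX : ∀ a b x y, ι a x = ι b y → a = b := fun a b x y h =>
    congrArg Sigma.fst ((sigmaι_eq_iff Y a b x y).1 h)
  let pX : X ⟶ Spec (CommRingCat.of V) := Sigma.desc q
  have hιp : ∀ c, ι c ≫ pX = q c := fun c => Sigma.ι_desc _ _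
  obtain ⟨hcol⟩ := nonempty_isColimit_cofanMk_of (fun c => (U c).ι) (by
      rw [eq_top_iff]
      intro x _
      obtain ⟨c, hc⟩ := hcov x
      exact Opens.mem_iSup.2 ⟨c, by rw [Scheme.Opens.opensRange_ι]; exact hc⟩) (by
      intro a b hab
      rw [Function.onFun, Scheme.Opens.opensRange_ι, Scheme.Opens.opensRange_ι]
      rw [disjoint_iff, eq_bot_iff]
      rintro x ⟨ha, hb⟩
      exact (hab (hdis a b x ha hb)).elim)
  let E : P ⟶ X := Cofan.IsColimit.desc hcol fun c => e c ≫ ι c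
  have hE1 : ∀ c, (U c).ι ≫ E = e c ≫ ι c := fun c => Cofan.IsColimit.fac hcol _ c
  have hw : E ≫ pX = t ≫ K122.Plan2.iK V := by
    apply Cofan.IsColimit.hom_ext hcol
    intro c
    change (U c).ι ≫ E ≫ pX = (U c).ι ≫ t ≫ _
    rw [reassoc_of% (hE1 c), hιp, (hpb c).w, Category.assoc]
  have hproper : IsProper pX := Disj.isProper_of_disjoint ι hcovX hdisX pX fun c => by
    rw [hιp]
    exact (hstY c).2.1
  have hnodal : Curv2.IsNodalFamily pX := StabField.isNodalFamily_of_cover pX ι hcovX fun c => by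
    rw [hιp]
    exact StabField.isNodalFamily_of_isStableFam (hstY c)
  have hflX : Flat pX := hnodal.1
  have hfpX : LocallyOfFinitePresentation pX := hnodal.2.1
  choose c hc using fun i => hcov (κ i (closedPoint K))
  choose a ha using fun i => hε (c i) i (hc i)
  let F : (Σ c, Fin (m c)) → (Spec (CommRingCat.of V) ⟶ X) := fun s => τ s.1 s.2 ≫ ι s.1
  let idx : Fin n → Σ c, Fin (m c) := fun i => ⟨c i, a i⟩
  have hidx : Function.Injective idx := fun i j hij => by
    have h1 : ∀ i, (fun s : Σ c, Fin (m c) => ε s.1 s.2) (idx i) = i := ha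
    rw [← h1 i, ← h1 j, hij]
  have hF : ∀ s s' y, F s y = F s' y → s = s' := by
    rintro ⟨b, i⟩ ⟨b', i'⟩ y h
    have h1 : ι b (τ b i y) = ι b' (τ b' i' y) := h
    obtain rfl := hdisX _ _ _ _ h1
    have h2 := (ι b).isOpenEmbedding.injective h1
    by_contra hne
    exact K508.SmLocus.disjoint_sections (hstY b) i i' (fun h3 => hne (by rw [h3])) y h2
  refine ⟨X, pX, E, fun i => F (idx i), hproper, hnodal,
    Disj.isPullback_of_disjoint ι hcovX hdisX pX (K122.Plan2.iK V) t E (fun c => (U c).ι) hcovP e hE1 hw fun c => by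
      rw [hιp]; exact hpb c, fun i => ?_, fun i => ?_, fun i j y h => hidx (hF _ _ y h), fun i y => ?_⟩
  · change (τ (c i) (a i) ≫ ι (c i)) ≫ pX = 𝟙 _
    rw [Category.assoc, hιp, hτ]
  · change κ i ≫ E = K122.Plan2.iK V ≫ τ (c i) (a i) ≫ ι (c i)
    have h1 : κ i = κ' (c i) (a i) ≫ (U (c i)).ι := by rw [hκ1, ha]
    rw [h1, Category.assoc, hE1, reassoc_of% (hcomp (c i) (a i))]
  · refine (smoothAt_iff pX _).1 ?_
    change SmoothAt pX (ι (c i) (τ (c i) (a i) y))
    rw [← locusProp_smooth.source (ι (c i)) pX, hιp]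
    exact StabField.smoothAt_of_isStableFam (hstY (c i)) (a i) y

end K835.StabModel

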