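import Mathlib.AlgebraicGeometry.Morphisms.Proper
import Mathlib.AlgebraicGeometry.Morphisms.FiniteType
import Mathlib.AlgebraicGeometry.Limits
import Mathlib.AlgebraicGeometry.Noetherian
import Mathlib.Topology.Connected.Clopen
import Mathlib.Topology.Connected.LocallyConnected

/-!
# Disjoint open covers of schemes

* `isPullback_of_disjoint`: a square is cartesian if it is so on the members of a disjoint open cover;
* `isProper_of_disjoint`: properness of a finite disjoint union;
* `exists_components`: the connected components of a Noetherian scheme.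
-/

set_option autoImplicit false
universe u
open CategoryTheory CategoryTheory.Limits AlgebraicGeometry TopologicalSpace

namespace K835.Disj

section Cover

variable {J : Type u} {Y : J → Scheme.{u}} {X S : Scheme.{u}} (ι : ∀ c, Y c ⟶ X) [∀ c, IsOpenImmersion (ι c)]

/-- The open cover defined by a jointly surjective family of open immersions. -/
noncomputable def cov (hcov : ∀ x : X, ∃ c, x ∈ Set.range (ι c)) : X.OpenCover :=
  Scheme.Cover.mkOfCovers J Y ι hcov inferInstance

theorem isClosed_range (hcov : ∀ x : X, ∃ c, x ∈ Set.range (ι c))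
    (hdis : ∀ a b x y, ι a x = ι b y → a = b) (c : J) : IsClosed (Set.range (ι c)) := by
  have h : (Set.range (ι c))ᶜ = ⋃ (b : J) (_ : b ≠ c), Set.range (ι b) := by
    ext x
    simp only [Set.mem_compl_iff, Set.mem_iUnion]
    constructor
    · intro hx
      obtain ⟨b, y, rfl⟩ := hcov x
      refine ⟨b, fun hb => hx ?_, y, rfl⟩
      subst hb
      exact ⟨y, rfl⟩
    · rintro ⟨b, hb, y, rfl⟩ ⟨z, hz⟩
      exact hb (hdis b c y z hz.symm)
  rw [← isOpen_compl_iff, h]
  exact isOpen_iUnion fun b => isOpen_iUnion fun _ => (ι b).isOpenEmbedding.isOpen_range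

/-- A square is cartesian if it is so on the members of a disjoint open cover. -/
theorem isPullback_of_disjoint (hcov : ∀ x : X, ∃ c, x ∈ Set.range (ι c))
    (hdis : ∀ a b x y, ι a x = ι b y → a = b) {T P : Scheme.{u}} (pX : X ⟶ S) (k : T ⟶ S) (t : P ⟶ T) (e : P ⟶ X)
    {P' : J → Scheme.{u}} (u : ∀ c, P' c ⟶ P) [∀ c, IsOpenImmersion (u c)]
    (hcovP : ∀ x : P, ∃ c, x ∈ Set.range (u c)) (e' : ∀ c, P' c ⟶ Y c)
    (comm : ∀ c, u c ≫ e = e' c ≫ ι c) (w : e ≫ pX = t ≫ k)
    (h : ∀ c, IsPullback (e' c) (u c ≫ t) (ι c ≫ pX) k) : IsPullback e t pX k := by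
  let φ : P ⟶ pullback pX k := pullback.lift e t w
  have hφ1 : φ ≫ pullback.fst pX k = e := pullback.lift_fst _ _ _
  have hφ2 : φ ≫ pullback.snd pX k = t := pullback.lift_snd _ _ _
  suffices hφ : IsIso φ from IsPullback.of_iso_pullback ⟨w⟩ (asIso φ) hφ1 hφ2
  let Q : J → Scheme.{u} := fun c => pullback (pullback.fst pX k) (ι c)
  let j : ∀ c, Q c ⟶ pullback pX k := fun c => pullback.fst _ _
  have hcovQ : ∀ x : ↥(pullback pX k), ∃ c, x ∈ Set.range (j c) := by
    intro x
    obtain ⟨c, y, hy⟩ := hcov (pullback.fst pX k x)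
    obtain ⟨z, hz, -⟩ := Scheme.Pullback.exists_preimage_pullback (f := pullback.fst pX k) (g := ι c) x y hy.symm
    exact ⟨c, z, hz⟩
  have hpb : ∀ c, IsPullback (j c) (pullback.snd _ _) (pullback.fst pX k) (ι c) := fun c =>
    IsPullback.of_hasPullback _ _
  have hpbX : ∀ c, IsPullback (u c) (e' c) e (ι c) := by
    intro c
    refine (IsOpenImmersion.isPullback (e' c) (u c) (ι c) e (comm c) ?_).flip
    ext x
    constructor
    · rintro ⟨y, hy⟩
      obtain ⟨b, z, rfl⟩ := hcovP x
      have h1 : e (u b z) = ι b (e' b z) := by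
        rw [← Scheme.Hom.comp_apply, comm, Scheme.Hom.comp_apply]
      have h2 : c = b := hdis c b y (e' b z) (by rw [← h1]; exact hy)
      subst h2
      exact ⟨z, rfl⟩
    · rintro ⟨y, rfl⟩
      refine ⟨e' c y, ?_⟩
      rw [← Scheme.Hom.comp_apply, ← comm, Scheme.Hom.comp_apply]
  let ψ : ∀ c, P' c ⟶ Q c := fun c => (hpb c).lift (u c ≫ φ) (e' c) (by rw [Category.assoc, hφ1, comm])
  have hψ1 : ∀ c, ψ c ≫ j c = u c ≫ φ := fun c => (hpb c).lift_fst _ _ _
  have hψ2 : ∀ c, ψ c ≫ pullback.snd _ _ = e' c := fun c => (hpb c).lift_snd _ _ _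
  have hpbφ : ∀ c, IsPullback (u c) (ψ c) φ (j c) := by
    intro c
    refine (IsPullback.of_right (h₁₂ := pullback.snd _ _) (h₂₂ := pullback.fst pX k) (v₁₃ := ι c) ?_ ?_ (hpb c).flip).flip
    · rw [hψ2, hφ1]
      exact (hpbX c).flip
    · exact hψ1 c
  have hloc := (IsZariskiLocalAtTarget.iff_of_openCover (P := MorphismProperty.isomorphisms Scheme.{u})
    (f := φ) (cov j hcovQ)).2
  have h2 : ∀ c : J, IsPullback (pullback.snd (pullback.fst pX k) (ι c)) (j c ≫ pullback.snd pX k) (ι c ≫ pX) k :=
    fun c => (hpb c).flip.paste_vert (IsPullback.of_hasPullback pX k)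
  have hψ : ∀ c : J, IsIso (ψ c) := by
    intro c
    have h3 : ψ c = ((h c).isoIsPullback _ _ (h2 c)).hom := by
      apply (h2 c).hom_ext
      · rw [hψ2, IsPullback.isoIsPullback_hom_fst]
      · rw [reassoc_of% (hψ1 c), hφ2, IsPullback.isoIsPullback_hom_snd]
    rw [h3]
    infer_instance
  refine hloc fun (c : J) => ?_
  have := hψ c
  change IsIso (pullback.snd φ (j c))
  rw [← (hpbφ c).isoPullback_inv_snd]
  infer_instance

/-- A finite disjoint union of proper schemes is proper. -/
theorem isProper_of_disjoint [Finite J] (hcov : ∀ x : X, ∃ c, x ∈ Set.range (ι c))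
    (hdis : ∀ a b x y, ι a x = ι b y → a = b) (pX : X ⟶ S) (h : ∀ c, IsProper (ι c ≫ pX)) : IsProper pX := by
  have hcl : ∀ c, IsClosedImmersion (ι c) := fun c =>
    IsClosedImmersion.of_isPreimmersion (ι c) (isClosed_range ι hcov hdis c)
  have h1 : LocallyOfFiniteType pX :=
    (IsZariskiLocalAtSource.iff_of_openCover (P := @LocallyOfFiniteType) (cov ι hcov)).2
      fun (c : J) => (h c).toLocallyOfFiniteType
  have h2 : UniversallyClosed pX := by
    constructor
    intro X' Y' i₁ i₂ f' H Z hZ
    have h3 : f' '' Z = ⋃ c, (pullback.fst i₁ (ι c) ≫ f') '' ((pullback.fst i₁ (ι c)) ⁻¹' Z) := by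
      ext y
      simp only [Set.mem_image, Set.mem_iUnion, Set.mem_preimage]
      constructor
      · rintro ⟨x, hx, rfl⟩
        obtain ⟨c, z, hz⟩ := hcov (i₁ x)
        obtain ⟨w, hw, -⟩ := Scheme.Pullback.exists_preimage_pullback (f := i₁) (g := ι c) x z hz.symm
        exact ⟨c, w, by rw [hw]; exact hx, by rw [Scheme.Hom.comp_apply, hw]⟩
      · rintro ⟨c, w, hw, rfl⟩
        exact ⟨_, hw, (Scheme.Hom.comp_apply _ _ _).symm⟩
    rw [h3]
    refine isClosed_iUnion_of_finite fun c => ?_
    have h4 : IsPullback (pullback.snd i₁ (ι c)) (pullback.fst i₁ (ι c) ≫ f') (ι c ≫ pX) i₂ := by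
      exact (IsPullback.of_hasPullback i₁ (ι c)).flip.paste_vert H.flip
    have h5 : IsProper (pullback.fst i₁ (ι c) ≫ f') := MorphismProperty.of_isPullback h4 (h c)
    exact (pullback.fst i₁ (ι c) ≫ f').isClosedMap _ (hZ.preimage (pullback.fst i₁ (ι c)).continuous)
  have h3 : IsSeparated pX := by
    constructor
    refine IsClosedImmersion.of_isPreimmersion _ ?_
    have h4 : Set.range (pullback.diagonal pX) = ⋃ c, Set.range (ι c ≫ pullback.diagonal pX) := by
      ext y
      simp only [Set.mem_range, Set.mem_iUnion]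
      constructor
      · rintro ⟨x, rfl⟩
        obtain ⟨c, z, rfl⟩ := hcov x
        exact ⟨c, z, by rw [Scheme.Hom.comp_apply]⟩
      · rintro ⟨c, z, rfl⟩
        exact ⟨ι c z, by rw [Scheme.Hom.comp_apply]⟩
    rw [h4]
    refine isClosed_iUnion_of_finite fun c => ?_
    let m : pullback (ι c ≫ pX) (ι c ≫ pX) ⟶ pullback pX pX :=
      pullback.map _ _ _ _ (ι c) (ι c) (𝟙 S) (Category.comp_id _) (Category.comp_id _)
    have h5 : ι c ≫ pullback.diagonal pX = pullback.diagonal (ι c ≫ pX) ≫ m := by
      apply pullback.hom_ext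
      · rw [Category.assoc, pullback.diagonal_fst, Category.comp_id, Category.assoc, pullback.lift_fst,
          pullback.diagonal_fst_assoc]
      · rw [Category.assoc, pullback.diagonal_snd, Category.comp_id, Category.assoc, pullback.lift_snd,
          pullback.diagonal_snd_assoc]
    have h6 : IsClosedImmersion m := by
      exact MorphismProperty.pullbackMap (P := @IsClosedImmersion) (hcl c) (hcl c) rfl rfl
    rw [h5]
    exact (pullback.diagonal (ι c ≫ pX) ≫ m).isClosedEmbedding.isClosed_range
  exact {}

end Cover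

/-- In a Noetherian space connected components are open. -/
theorem isOpen_connectedComponent {α : Type*} [TopologicalSpace α] [NoetherianSpace α]
    (x : α) : IsOpen (connectedComponent x) := by
  have h := NoetherianSpace.finite_irreducibleComponents (α := α)
  have : (connectedComponent x)ᶜ =
      ⋃ Z ∈ {Z ∈ irreducibleComponents α | Z ⊆ (connectedComponent x)ᶜ}, Z := by
    apply Set.Subset.antisymm
    · intro y hy
      simp only [Set.mem_iUnion]
      refine ⟨irreducibleComponent y, ⟨irreducibleComponent_mem_irreducibleComponents y, ?_⟩,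
        mem_irreducibleComponent⟩
      intro z hz hzx
      apply hy
      have h1 : connectedComponent x = connectedComponent z := connectedComponent_eq hzx
      rw [h1]
      exact (isIrreducible_irreducibleComponent.isPreirreducible.isPreconnected).subset_connectedComponent
        hz mem_irreducibleComponent
    · exact Set.iUnion₂_subset fun Z hZ ↦ hZ.2
  rw [← isClosed_compl_iff, this]
  exact (h.subset (Set.sep_subset _ _)).isClosed_biUnion
    fun Z hZ ↦ isClosed_of_mem_irreducibleComponents Z hZ.1

/-- The connected components of a Noetherian scheme. -/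
theorem exists_components (P : Scheme.{u}) [IsNoetherian P] :
    ∃ (J : Type u) (_ : Finite J) (U : J → P.Opens), (∀ c, ConnectedSpace (U c)) ∧
      (∀ x : P, ∃ c, x ∈ U c) ∧ ∀ a b x, x ∈ U a → x ∈ U b → a = b := by
  have hd : DiscreteTopology (ConnectedComponents P) :=
    ConnectedComponents.discreteTopology_iff.2 fun x => isOpen_connectedComponent x
  have hc : CompactSpace (ConnectedComponents P) := inferInstance
  refine ⟨ConnectedComponents P, finite_of_compact_of_discrete, fun c =>
    ⟨(ConnectedComponents.mk : P → _) ⁻¹' {c}, (isOpen_discrete _).preimage ConnectedComponents.continuous_coe⟩,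
    ?_, fun x => ⟨ConnectedComponents.mk x, rfl⟩, ?_⟩
  · intro c
    obtain ⟨x, rfl⟩ := ConnectedComponents.surjective_coe c
    refine isConnected_iff_connectedSpace.1 ?_
    change _root_.IsConnected ((ConnectedComponents.mk : P → _) ⁻¹' {ConnectedComponents.mk x})
    rw [connectedComponents_preimage_singleton]
    exact isConnected_connectedComponent
  · rintro a b x ha hb
    exact (show ConnectedComponents.mk x = a from ha).symm.trans (show ConnectedComponents.mk x = b from hb)

end K835.Disj
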